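import Mathlib

/-! Flatness of ideally separated modules through symbolic powers. -/

set_option autoImplicit false
set_option backward.isDefEq.respectTransparency false
universe u
open TensorProduct

namespace Groth.Agent.H06SepFlat

variable {A : Type u} [CommRing A] {M : Type u} [AddCommGroup M] [Module A M]
variable {r : ℕ} (p : Fin r → Ideal A) [∀ i, (p i).IsPrime]

/-- `z` vanishes at every `p i`. -/
def Killed {N : Type u} [AddCommGroup N] [Module A N] (z : N) : Prop :=
  ∀ i, ∃ s ∉ p i, s • z = 0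

theorem exists_smul_eq_zero_of_flat (q : Ideal A) [q.IsPrime]
    [Module.Flat (Localization.AtPrime q) (LocalizedModule q.primeCompl M)]
    {N N' : Type u} [AddCommGroup N] [Module A N] [AddCommGroup N'] [Module A N']
    {f : N' →ₗ[A] N} (hf : Function.Injective f) {w : M ⊗[A] N'} (hw : f.lTensor M w = 0) :
    ∃ s ∉ q, s • w = 0 := by
  haveI : Module.Flat A (Localization.AtPrime q) := IsLocalization.flat _ q.primeCompl
  haveI : Module.Flat A (LocalizedModule q.primeCompl M) :=
    Module.Flat.trans A (Localization.AtPrime q) _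
  let g := LocalizedModule.mkLinearMap q.primeCompl M
  have h1 : f.lTensor (LocalizedModule q.primeCompl M) (g.rTensor N' w) = 0 := by
    have := congrArg (g.rTensor N) hw
    rw [map_zero, ← LinearMap.comp_apply, LinearMap.rTensor_comp_lTensor] at this
    rwa [← LinearMap.comp_apply, LinearMap.lTensor_comp_rTensor]
  have h2 : g.rTensor N' w = 0 :=
    Module.Flat.lTensor_preserves_injective_linearMap _ hf (h1.trans (map_zero _).symm)
  obtain ⟨s, hs⟩ := (IsLocalizedModule.eq_zero_iff q.primeCompl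
    (AlgebraTensorModule.rTensor A N' g)).1 h2
  exact ⟨s, s.2, hs⟩

variable (J : Ideal A)

theorem flat_base [hM : Module.Flat (A ⧸ J) ((A ⧸ J) ⊗[A] M)] {N N' : Type u} [AddCommGroup N]
    [Module A N] [AddCommGroup N'] [Module A N'] (hN : Module.IsTorsionBySet A N J)
    (hN' : Module.IsTorsionBySet A N' J) {f : N →ₗ[A] N'} (hf : Function.Injective f) :
    Function.Injective (f.lTensor M) := by
  letI := hN.module
  letI := hN'.module
  haveI := hN.isScalarTower (S := A)
  haveI := hN'.isScalarTower (S := A)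
  let f' : N →ₗ[A ⧸ J] N' :=
    { f with
      map_smul' := fun c x => by
        obtain ⟨a, rfl⟩ := Ideal.Quotient.mk_surjective c
        exact map_smul f a x }
  have h1 : Function.Injective (f'.rTensor ((A ⧸ J) ⊗[A] M)) :=
    Module.Flat.rTensor_preserves_injective_linearMap f' hf
  let e : N ⊗[A ⧸ J] ((A ⧸ J) ⊗[A] M) ≃ₗ[A ⧸ J] N ⊗[A] M :=
    AlgebraTensorModule.cancelBaseChange A (A ⧸ J) (A ⧸ J) N M
  let e' : N' ⊗[A ⧸ J] ((A ⧸ J) ⊗[A] M) ≃ₗ[A ⧸ J] N' ⊗[A] M :=
    AlgebraTensorModule.cancelBaseChange A (A ⧸ J) (A ⧸ J) N' M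
  have h2 : ∀ z, f.rTensor M (e z) = e' (f'.rTensor _ z) := fun z => by
    induction z with
    | zero => simp
    | add a b ha hb => simp only [map_add, ha, hb]
    | tmul a b =>
      induction b with
      | zero => simp
      | add c d hc hd => simp only [tmul_add, map_add, hc, hd]
      | tmul c m =>
        simp [e, e', f']
        exact congrArg (· ⊗ₜ[A] m) (f'.map_smul c a)
  have h3 : Function.Injective (f.rTensor M) := fun a b hab => by
    obtain ⟨a, rfl⟩ := e.surjective a
    obtain ⟨b, rfl⟩ := e.surjective b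
    rw [h2, h2] at hab
    exact congrArg e (h1 (e'.injective hab))
  rwa [LinearMap.lTensor_inj_iff_rTensor_inj]

theorem eq_zero_of_killed_of_graded [Module.Flat (A ⧸ J) ((A ⧸ J) ⊗[A] M)] {N : Type u}
    [AddCommGroup N] [Module A N] (hJ : ∀ a ∈ J, ∀ x : N, a • x = 0)
    (hN : ∀ x : N, Killed p x → x = 0) (z : M ⊗[A] N) (hz : Killed p z) : z = 0 := by
  classical
  let L := fun i => LocalizedModule (p i).primeCompl N
  let ψ : N →ₗ[A] ∀ i, L i := LinearMap.pi fun i => LocalizedModule.mkLinearMap (p i).primeCompl N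
  have hψ : Function.Injective ψ := by
    rw [injective_iff_map_eq_zero]
    intro x hx
    refine hN x fun i => ?_
    obtain ⟨s, hs⟩ := (IsLocalizedModule.eq_zero_iff (p i).primeCompl
      (LocalizedModule.mkLinearMap (p i).primeCompl N)).1 (congrFun hx i)
    exact ⟨s, s.2, hs⟩
  have hL : Module.IsTorsionBySet A (∀ i, L i) J := fun x a => funext fun i => by
    show (a : A) • x i = 0
    induction x i using LocalizedModule.induction_on with
    | h m s => rw [LocalizedModule.smul'_mk, hJ a a.2 m, LocalizedModule.zero_mk]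
  apply flat_base J (fun x a => hJ a a.2 x) hL hψ
  rw [map_zero]
  apply (TensorProduct.piRight A A M L).injective
  rw [map_zero]
  funext i
  obtain ⟨s, hs, hsz⟩ := hz i
  have h1 : s • (TensorProduct.piRight A A M L (ψ.lTensor M z)) i = 0 := by
    rw [← Pi.smul_apply, ← map_smul, ← map_smul, hsz, map_zero, map_zero, Pi.zero_apply]
  have hu : IsUnit (algebraMap A (Module.End A (L i)) s) :=
    IsLocalizedModule.map_units (LocalizedModule.mkLinearMap (p i).primeCompl N) (⟨s, hs⟩ : (p i).primeCompl)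
  obtain ⟨c, hc⟩ := hu.exists_left_inv
  have hc' : ∀ y : M ⊗[A] L i, c.lTensor M (s • y) = y := fun y => by
    induction y with
    | zero => simp
    | add a b ha hb => simp only [smul_add, map_add, ha, hb]
    | tmul m l =>
      rw [← tmul_smul, LinearMap.lTensor_tmul]
      exact congrArg (m ⊗ₜ[A] ·) (LinearMap.congr_fun hc l)
  rw [Pi.zero_apply, ← hc' ((TensorProduct.piRight A A M L (ψ.lTensor M z)) i), h1, map_zero]

/-- The intersection of the symbolic powers. -/
noncomputable def symPow (m : ℕ) : Ideal A :=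
  ⨅ i, Ideal.comap (algebraMap A (Localization.AtPrime (p i)))
    (IsLocalRing.maximalIdeal (Localization.AtPrime (p i)) ^ m)

theorem symPow_zero : symPow p 0 = ⊤ := by simp [symPow]

theorem symPow_antitone {m n : ℕ} (h : m ≤ n) : symPow p n ≤ symPow p m :=
  iInf_mono fun _ => Ideal.comap_mono (Ideal.pow_le_pow_right h)

theorem mul_mem_symPow (hp : ∀ i, J ≤ p i) {a x : A} {k : ℕ} (ha : a ∈ J) (hx : x ∈ symPow p k) :
    a * x ∈ symPow p (k + 1) := by
  simp only [symPow, Ideal.mem_iInf, Ideal.mem_comap, map_mul] at hx ⊢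
  intro i
  rw [pow_succ']
  exact Ideal.mul_mem_mul ((IsLocalization.AtPrime.to_map_mem_maximal_iff _ (p i) a).2 (hp i ha)) (hx i)

theorem mem_symPow_of_smul {k : ℕ} {x : A} (h : ∀ i, ∃ s ∉ p i, s * x ∈ symPow p k) :
    x ∈ symPow p k := by
  simp only [symPow, Ideal.mem_iInf, Ideal.mem_comap]
  intro i
  obtain ⟨s, hs, hsx⟩ := h i
  simp only [symPow, Ideal.mem_iInf, Ideal.mem_comap, map_mul] at hsx
  exact (Ideal.unit_mul_mem_iff_mem _
    (IsLocalization.map_units (Localization.AtPrime (p i)) (⟨s, hs⟩ : (p i).primeCompl))).1 (hsx i)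

theorem eq_zero_of_killed [Module.Flat (A ⧸ J) ((A ⧸ J) ⊗[A] M)]
    [∀ i, Module.Flat (Localization.AtPrime (p i)) (LocalizedModule (p i).primeCompl M)]
    (hp : ∀ i, J ≤ p i) (a : Ideal A) (m : ℕ) :
    let D := Submodule.comap a.subtype (a ⊓ symPow p m)
    ∀ z : M ⊗[A] (a ⧸ D), Killed p z → z = 0 := by
  intro D
  -- the filtration of `a ⧸ D` by the symbolic powers
  let Q : ℕ → Submodule A (a ⧸ D) := fun k => (Submodule.comap a.subtype (symPow p k)).map D.mkQ
  have key : ∀ d k, k + d = m → ∀ z : M ⊗[A] Q k, Killed p z → z = 0 := by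
    intro d
    induction d with
    | zero =>
      intro k hk z _
      have h0 : Q k = ⊥ := by
        subst hk
        rw [eq_bot_iff]
        rintro _ ⟨x, hx, rfl⟩
        exact (Submodule.Quotient.mk_eq_zero D).2 ⟨x.2, hx⟩
      haveI : Subsingleton (Q k) := by rw [h0]; infer_instance
      exact Subsingleton.elim _ _
    | succ d ih =>
      intro k hk z hz
      have hle : Q (k + 1) ≤ Q k :=
        Submodule.map_mono (Submodule.comap_mono (symPow_antitone p k.le_succ))
      let ι := Submodule.inclusion hle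
      let R := LinearMap.range ι
      have hex : Function.Exact ι R.mkQ :=
        LinearMap.exact_iff.2 (Submodule.ker_mkQ R)
      -- description of the graded piece
      have hmem : ∀ (x : a) (hx : x.1 ∈ symPow p k),
          R.mkQ ⟨D.mkQ x, ⟨x, hx, rfl⟩⟩ = 0 ↔ x.1 ∈ symPow p (k + 1) := by
        intro x hx
        rw [Submodule.mkQ_apply, Submodule.Quotient.mk_eq_zero]
        constructor
        · rintro ⟨⟨_, y, hy, rfl⟩, hxy⟩
          have h1 : D.mkQ y = D.mkQ x := congrArg Subtype.val hxy
          rw [Submodule.mkQ_apply, Submodule.mkQ_apply, Submodule.Quotient.eq] at h1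
          have h2 : (y - x).1 ∈ symPow p (k + 1) := symPow_antitone p (by omega) h1.2
          have := sub_mem (show y.1 ∈ symPow p (k + 1) from hy) h2
          simpa using this
        · exact fun h => ⟨⟨D.mkQ x, ⟨x, h, rfl⟩⟩, Subtype.ext rfl⟩
      have hgr : R.mkQ.lTensor M z = 0 := by
        refine eq_zero_of_killed_of_graded p J ?_ ?_ _ fun i => ?_
        · intro c hc x
          obtain ⟨⟨_, y, hy, rfl⟩, rfl⟩ := R.mkQ_surjective x
          rw [← map_smul]
          exact (hmem (c • y) (Ideal.mul_mem_left _ c hy)).2 (mul_mem_symPow p J hp hc hy)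
        · intro x hx
          obtain ⟨⟨_, y, hy, rfl⟩, rfl⟩ := R.mkQ_surjective x
          refine (hmem y hy).2 (mem_symPow_of_smul p fun i => ?_)
          obtain ⟨s, hs, hsy⟩ := hx i
          rw [← map_smul] at hsy
          exact ⟨s, hs, (hmem (s • y) (Ideal.mul_mem_left _ s hy)).1 hsy⟩
        · obtain ⟨s, hs, hsz⟩ := hz i
          exact ⟨s, hs, by rw [← map_smul, hsz, map_zero]⟩
      obtain ⟨w, hw⟩ := (lTensor_exact M hex R.mkQ_surjective z).1 hgr
      have hw0 : Killed p w := fun i => by
        obtain ⟨s, hs, hsz⟩ := hz i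
        obtain ⟨t, ht, htw⟩ := exists_smul_eq_zero_of_flat (p i) (Submodule.inclusion_injective hle)
          (w := s • w) (by rw [map_smul, hw, hsz])
        exact ⟨t * s, fun h => (Ideal.IsPrime.mem_or_mem inferInstance h).elim ht hs,
          by rw [mul_smul, htw]⟩
      rw [← hw, ih (k + 1) (by omega) w hw0, map_zero]
  intro z hz
  have h0 : Q 0 = ⊤ := by
    show (Submodule.comap a.subtype (symPow p 0)).map D.mkQ = ⊤
    rw [symPow_zero, Submodule.comap_top, Submodule.map_top, Submodule.range_mkQ]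
  let e : Q 0 ≃ₗ[A] (a ⧸ D) := LinearEquiv.ofTop _ h0
  obtain ⟨z, rfl⟩ := (e.lTensor M).surjective z
  rw [key m 0 (by omega) z fun i => ?_, map_zero]
  obtain ⟨s, hs, hsz⟩ := hz i
  exact ⟨s, hs, (e.lTensor M).injective (by rw [map_smul, hsz, map_zero])⟩

theorem flat_of_symPow [IsNoetherianRing A] [Module.Flat (A ⧸ J) ((A ⧸ J) ⊗[A] M)]
    [∀ i, Module.Flat (Localization.AtPrime (p i)) (LocalizedModule (p i).primeCompl M)]
    (hsep : ∀ a : Ideal A, IsHausdorff J (↥a ⊗[A] M)) (hp : ∀ i, J ≤ p i)
    (htop : ∀ n, ∃ m, symPow p m ≤ J ^ n) : Module.Flat A M := by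
  rw [Module.Flat.iff_lTensor_injective']
  intro a
  rw [injective_iff_map_eq_zero]
  intro x hx
  apply (TensorProduct.comm A M a).injective
  rw [map_zero]
  refine (hsep a).haus' _ fun n => ?_
  rw [SModEq.zero]
  obtain ⟨c, hc⟩ := Ideal.exists_pow_inf_eq_pow_smul J (M := A) a
  obtain ⟨m, hm⟩ := htop (n + c)
  let D := Submodule.comap a.subtype (a ⊓ symPow p m)
  have h1 : D.mkQ.lTensor M x = 0 := by
    refine eq_zero_of_killed p J hp a m _ fun i => ?_
    obtain ⟨s, hs, hsx⟩ := exists_smul_eq_zero_of_flat (p i) a.injective_subtype hx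
    exact ⟨s, hs, by rw [← map_smul, hsx, map_zero]⟩
  obtain ⟨w, rfl⟩ := (lTensor_exact M (LinearMap.exact_subtype_mkQ D) D.mkQ_surjective x).1 h1
  have hD : ∀ d : D, (d : a) ∈ J ^ n • (⊤ : Submodule A a) := fun d => by
    have h2 : (d : a).1 ∈ (J ^ (n + c) • ⊤ ⊓ a : Submodule A A) :=
      ⟨by simpa [Ideal.smul_eq_mul] using hm d.2.2, (d : a).2⟩
    rw [hc (n + c) (Nat.le_add_left c n), Nat.add_sub_cancel] at h2
    have h3 : (d : a).1 ∈ J ^ n • a := Submodule.smul_mono le_rfl inf_le_right h2
    have h4 : Submodule.map a.subtype (J ^ n • (⊤ : Submodule A a)) = J ^ n • a := by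
      rw [Submodule.map_smul'', Submodule.map_top, Submodule.range_subtype]
    rw [← h4] at h3
    obtain ⟨y, hy, hyd⟩ := h3
    rwa [← a.injective_subtype hyd]
  clear hx h1
  induction w with
  | zero => simp
  | add u v hu hv => simpa only [map_add] using add_mem hu hv
  | tmul q d =>
    rw [LinearMap.lTensor_tmul, TensorProduct.comm_tmul]
    have h5 := Submodule.mem_map_of_mem (f := (TensorProduct.mk A a M).flip q) (hD d)
    rw [Submodule.map_smul''] at h5
    exact Submodule.smul_mono le_rfl le_top h5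

end Groth.Agent.H06SepFlat
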